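/-
Monomial matrices in `SL_n`: the calculus of supports, the unitriangular group and the diagonal group.
-/
import Cfsg.Agent.Lib.GLFlag.PSL

set_option autoImplicit false

namespace Cfsg.Agent.Lib.SLn

open Cfsg Matrix

open Cfsg.Agent.Lib.GLFlag (SLn)

variable {n : ℕ} {F : Type*} [Field F]

/-- A matrix is supported on the graph of a permutation. -/
def IsMono (g : Matrix (Fin n) (Fin n) F) (w : Equiv.Perm (Fin n)) : Prop := ∀ i j, i ≠ w j → g i j = 0

lemma IsMono.mul_apply {b : Matrix (Fin n) (Fin n) F} {w : Equiv.Perm (Fin n)} (hb : IsMono b w)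
    (a : Matrix (Fin n) (Fin n) F) (i j : Fin n) : (a * b) i j = a i (w j) * b (w j) j := by
  rw [Matrix.mul_apply, Finset.sum_eq_single (w j)]
  · intro r _ hr
    rw [hb r j hr, mul_zero]
  · simp

lemma IsMono.apply_mul {a : Matrix (Fin n) (Fin n) F} {w : Equiv.Perm (Fin n)} (ha : IsMono a w)
    (b : Matrix (Fin n) (Fin n) F) (i j : Fin n) : (a * b) i j = a i (w⁻¹ i) * b (w⁻¹ i) j := by
  rw [Matrix.mul_apply, Finset.sum_eq_single (w⁻¹ i)]
  · intro r _ hr
    rw [ha i r (fun h => hr (by rw [h]; simp)), zero_mul]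
  · simp

lemma IsMono.mul {a b : Matrix (Fin n) (Fin n) F} {w w' : Equiv.Perm (Fin n)} (ha : IsMono a w) (hb : IsMono b w') :
    IsMono (a * b) (w * w') := by
  intro i j h
  rw [hb.mul_apply, ha i (w' j) h, zero_mul]

lemma isMono_one : IsMono (1 : Matrix (Fin n) (Fin n) F) 1 := by
  intro i j h
  exact Matrix.one_apply_ne h

lemma isMono_diagonal (d : Fin n → F) : IsMono (Matrix.diagonal d) 1 := by
  intro i j h
  exact Matrix.diagonal_apply_ne _ h

lemma isMono_permM (w : Equiv.Perm (Fin n)) : IsMono (Cfsg.Agent.Lib.GLFlag.permM F w) w := by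
  intro i j h
  simp [Cfsg.Agent.Lib.GLFlag.permM, h]

/-- A left inverse of a monomial matrix. -/
lemma IsMono.inv_of_mul {g h : Matrix (Fin n) (Fin n) F} {w : Equiv.Perm (Fin n)} (hg : IsMono g w) (e : h * g = 1) :
    IsMono h w⁻¹ := by
  intro j i hji
  have h1 := congrFun (congrFun e j) (w⁻¹ i)
  rw [hg.mul_apply] at h1
  have h2 : w (w⁻¹ i) = i := by simp
  rw [h2] at h1
  have h3 : (1 : Matrix (Fin n) (Fin n) F) j (w⁻¹ i) = 0 := Matrix.one_apply_ne hji
  rw [h3] at h1
  rcases mul_eq_zero.1 h1 with h4 | h4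
  · exact h4
  · have h5 := congrFun (congrFun e (w⁻¹ i)) (w⁻¹ i)
    rw [hg.mul_apply, h2, h4, mul_zero, Matrix.one_apply_eq] at h5
    exact absurd h5.symm one_ne_zero

/-- The entries of the conjugate under a monomial matrix. -/
lemma conj_apply {m m' : Matrix (Fin n) (Fin n) F} {w : Equiv.Perm (Fin n)} (hm : IsMono m w) (hm' : IsMono m' w⁻¹)
    (y : Matrix (Fin n) (Fin n) F) (k l : Fin n) : (m' * y * m) k l = m' k (w k) * y (w k) (w l) * m (w l) l := by
  rw [hm.mul_apply, hm'.apply_mul]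
  simp

lemma coe_inv_mul (g : SLn n F) : ((g⁻¹ : SLn n F) : Matrix (Fin n) (Fin n) F) * (g : Matrix (Fin n) (Fin n) F) = 1 := by
  rw [← Matrix.SpecialLinearGroup.coe_mul, inv_mul_cancel, Matrix.SpecialLinearGroup.coe_one]

lemma coe_mul_inv (g : SLn n F) : (g : Matrix (Fin n) (Fin n) F) * ((g⁻¹ : SLn n F) : Matrix (Fin n) (Fin n) F) = 1 := by
  rw [← Matrix.SpecialLinearGroup.coe_mul, mul_inv_cancel, Matrix.SpecialLinearGroup.coe_one]

lemma IsMono.inv {g : SLn n F} {w : Equiv.Perm (Fin n)} (hg : IsMono g.1 w) : IsMono (g⁻¹ : SLn n F).1 w⁻¹ :=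
  hg.inv_of_mul (coe_inv_mul g)

lemma IsMono.diag_mul {m m' : Matrix (Fin n) (Fin n) F} {w : Equiv.Perm (Fin n)} (hm : IsMono m w)
    (e : m' * m = 1) (k : Fin n) : m' k (w k) * m (w k) k = 1 := by
  have h := congrFun (congrFun e k) k
  rw [hm.mul_apply, Matrix.one_apply_eq] at h
  exact h

section Groups

variable [Finite F]

instance : Finite (SLn n F) := by
  haveI : Fintype F := Fintype.ofFinite F
  classical
  exact Finite.of_injective (fun g : SLn n F => (g.1 : Matrix (Fin n) (Fin n) F)) Subtype.val_injective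

/-- A submonoid of a finite group is a subgroup. -/
def subOf {G : Type*} [Group G] [Finite G] (S : Submonoid G) : Subgroup G :=
  { S with
    inv_mem' := fun {a} ha => by
      have h1 : a⁻¹ = a ^ (orderOf a - 1) := by
        apply inv_eq_of_mul_eq_one_right
        rw [← pow_succ', Nat.sub_add_cancel (orderOf_pos a), pow_orderOf_eq_one]
      show a⁻¹ ∈ S
      rw [h1]
      exact pow_mem ha _ }

variable (n F) in
/-- The unitriangular group. -/
def UU : Subgroup (SLn n F) := subOf
  { carrier := {g | (∀ k l, l < k → g.1 k l = 0) ∧ ∀ k, g.1 k k = 1}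
    one_mem' := by
      refine ⟨fun k l h => Matrix.one_apply_ne (ne_of_gt h), fun k => Matrix.one_apply_eq k⟩
    mul_mem' := by
      rintro a b ⟨ha, ha1⟩ ⟨hb, hb1⟩
      refine ⟨fun k l h => ?_, fun k => ?_⟩
      · rw [Matrix.SpecialLinearGroup.coe_mul, Matrix.mul_apply]
        refine Finset.sum_eq_zero fun r _ => ?_
        by_cases hr : r < k
        · rw [ha k r hr, zero_mul]
        · rw [hb r l (lt_of_lt_of_le h (not_lt.1 hr)), mul_zero]
      · rw [Matrix.SpecialLinearGroup.coe_mul, Matrix.mul_apply, Finset.sum_eq_single k]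
        · rw [ha1, hb1, one_mul]
        · intro r _ hr
          rcases lt_or_gt_of_ne hr with h | h
          · rw [ha k r h, zero_mul]
          · rw [hb r k h, mul_zero]
        · simp }

lemma mem_UU {g : SLn n F} : g ∈ UU n F ↔ (∀ k l, l < k → g.1 k l = 0) ∧ ∀ k, g.1 k k = 1 := Iff.rfl

variable (n F) in
/-- The diagonal group. -/
def TT : Subgroup (SLn n F) := subOf
  { carrier := {g | IsMono g.1 1}
    one_mem' := isMono_one
    mul_mem' := by
      intro a b ha hb
      have := IsMono.mul ha hb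
      simpa using this }

lemma mem_TT {g : SLn n F} : g ∈ TT n F ↔ IsMono g.1 1 := Iff.rfl

lemma TT_comm {s t : SLn n F} (hs : s ∈ TT n F) (ht : t ∈ TT n F) : s * t = t * s := by
  have hs' : IsMono s.1 1 := hs
  have ht' : IsMono t.1 1 := ht
  apply Subtype.ext
  ext i j
  show (s.1 * t.1) i j = (t.1 * s.1) i j
  rw [ht'.mul_apply, hs'.mul_apply]
  simp only [Equiv.Perm.one_apply]
  by_cases h : i = j
  · subst h
    exact mul_comm _ _
  · rw [hs' i j h, ht' i j h]
    simp

/-- The criterion for a conjugate to be unitriangular. -/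
lemma conj_mem_UU {m y : SLn n F} {w : Equiv.Perm (Fin n)} (hm : IsMono m.1 w) (hd : ∀ k, y.1 (w k) (w k) = 1)
    (ho : ∀ k l, l < k → y.1 (w k) (w l) = 0) : m⁻¹ * y * m ∈ UU n F := by
  have e : ∀ k l, (m⁻¹ * y * m : SLn n F).1 k l = (m⁻¹ : SLn n F).1 k (w k) * y.1 (w k) (w l) * m.1 (w l) l := by
    intro k l
    exact conj_apply hm (IsMono.inv hm) y.1 k l
  refine ⟨fun k l h => ?_, fun k => ?_⟩
  · rw [e, ho k l h]
    simp
  · rw [e, hd, mul_one]
    exact IsMono.diag_mul hm (coe_inv_mul m) k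

/-- The diagonal group normalizes the unitriangular group. -/
lemma TT_conj_UU {t u : SLn n F} (ht : t ∈ TT n F) (hu : u ∈ UU n F) : t⁻¹ * u * t ∈ UU n F :=
  conj_mem_UU (w := 1) ht (fun k => hu.2 k) (fun k l h => hu.1 k l h)

lemma mul_apply_adj {g h : SLn n F} (hg : g ∈ UU n F) (hh : h ∈ UU n F) {a b : Fin n} (hab : a.val + 1 = b.val) :
    (g * h).1 a b = g.1 a b + h.1 a b := by
  have hne : a ≠ b := by
    intro e
    rw [e] at hab
    omega
  rw [Matrix.SpecialLinearGroup.coe_mul, Matrix.mul_apply, Finset.sum_eq_add a b hne]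
  · rw [hg.2 a, hh.2 b, one_mul, mul_one, add_comm]
  · intro r _ hr
    rcases lt_or_gt_of_ne hr.1 with h1 | h1
    · rw [hg.1 a r h1, zero_mul]
    · have h2 : b < r := by
        have h3 : a.val < r.val := h1
        have h4 : r.val ≠ b.val := fun e => hr.2 (Fin.ext e)
        show b.val < r.val
        omega
      rw [hh.1 r b h2, mul_zero]
  · simp
  · simp

end Groups

end Cfsg.Agent.Lib.SLn
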