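/-
Block embeddings of `SL₂` in `SL_n`.
-/
import Cfsg.Agent.Lib.SLn.Mono

set_option autoImplicit false

namespace Cfsg.Agent.Lib.SLn

open Cfsg Matrix

open Cfsg.Agent.Lib.GLFlag (SLn)

variable {n : ℕ} {F : Type*} [Field F]

section Embed

variable (a b : Fin n) (hab : a ≠ b)

/-- The splitting of the index set. -/
def eqv : Fin 2 ⊕ {k : Fin n // k ≠ a ∧ k ≠ b} ≃ Fin n where
  toFun := Sum.elim ![a, b] Subtype.val
  invFun k := if h : k = a then Sum.inl 0 else if h' : k = b then Sum.inl 1 else Sum.inr ⟨k, h, h'⟩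
  left_inv := by
    rintro (i | ⟨k, h1, h2⟩)
    · fin_cases i
      · simp
      · simp [hab.symm]
    · simp [h1, h2]
  right_inv := by
    intro k
    by_cases h : k = a
    · simp [h]
    · by_cases h' : k = b
      · simp [h', hab.symm]
      · simp [h, h']

/-- The block embedding on matrices. -/
def emb (M : Matrix (Fin 2) (Fin 2) F) : Matrix (Fin n) (Fin n) F :=
  (fromBlocks M 0 0 1).submatrix (eqv a b hab).symm (eqv a b hab).symm

lemma emb_mul (M M' : Matrix (Fin 2) (Fin 2) F) : emb a b hab (M * M') = emb a b hab M * emb a b hab M' := by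
  unfold emb
  rw [Matrix.submatrix_mul_equiv, fromBlocks_multiply]
  simp

lemma emb_one : emb a b hab (1 : Matrix (Fin 2) (Fin 2) F) = 1 := by
  unfold emb
  rw [fromBlocks_one, Matrix.submatrix_one_equiv]

lemma emb_det (M : Matrix (Fin 2) (Fin 2) F) : (emb a b hab M).det = M.det := by
  unfold emb
  rw [Matrix.det_submatrix_equiv_self, Matrix.det_fromBlocks_zero₂₁, det_one, mul_one]

lemma emb_eqv (M : Matrix (Fin 2) (Fin 2) F) (x y) :
    emb a b hab M (eqv a b hab x) (eqv a b hab y) = fromBlocks M 0 0 1 x y := by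
  simp [emb]

lemma emb_apply (M : Matrix (Fin 2) (Fin 2) F) (k l : Fin n) :
    emb a b hab M k l = if k = a then (if l = a then M 0 0 else if l = b then M 0 1 else 0)
      else if k = b then (if l = a then M 1 0 else if l = b then M 1 1 else 0)
      else if k = l then 1 else 0 := by
  obtain ⟨x, rfl⟩ := (eqv a b hab).surjective k
  obtain ⟨y, rfl⟩ := (eqv a b hab).surjective l
  rw [emb_eqv]
  rcases x with i | ⟨k, h1, h2⟩
  · rcases y with j | ⟨l, h3, h4⟩
    · fin_cases i <;> fin_cases j <;> simp [eqv, hab.symm, hab]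
    · fin_cases i <;> simp [eqv, hab.symm, h3, h4]
  · rcases y with j | ⟨l, h3, h4⟩
    · fin_cases j <;> simp [eqv, hab.symm, h1, h2]
    · simp [eqv, h1, h2, h3, h4, Matrix.one_apply]

/-- The block embedding on groups. -/
def iot : Matrix.SpecialLinearGroup (Fin 2) F →* SLn n F where
  toFun M := ⟨emb a b hab M.1, by rw [emb_det, M.2]⟩
  map_one' := by
    apply Subtype.ext
    exact emb_one a b hab
  map_mul' M M' := by
    apply Subtype.ext
    exact emb_mul a b hab _ _

lemma iot_coe (M : Matrix.SpecialLinearGroup (Fin 2) F) : (iot a b hab M).1 = emb a b hab M.1 := rfl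

end Embed

/-- The unipotent elements of `SL₂`. -/
def Xm (t : F) : Matrix.SpecialLinearGroup (Fin 2) F := ⟨!![1, t; 0, 1], by simp [det_fin_two]⟩

/-- The Weyl element of `SL₂`. -/
def Sm : Matrix.SpecialLinearGroup (Fin 2) F := ⟨!![0, -1; 1, 0], by simp [det_fin_two]⟩

/-- The diagonal elements of `SL₂`. -/
def Hm (c : Fˣ) : Matrix.SpecialLinearGroup (Fin 2) F := ⟨!![(c : F), 0; 0, ((c⁻¹ : Fˣ) : F)], by simp [det_fin_two]⟩

lemma Xm_add (s t : F) : Xm (s + t) = Xm s * Xm t := by
  apply Subtype.ext
  rw [Matrix.SpecialLinearGroup.coe_mul]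
  ext i j
  fin_cases i <;> fin_cases j <;> simp [Xm, Matrix.mul_apply, Fin.sum_univ_two, add_comm]

lemma Xm_zero : Xm (0 : F) = 1 := by
  apply Subtype.ext
  ext i j
  fin_cases i <;> fin_cases j <;> simp [Xm]

lemma Hm_mul (c d : Fˣ) : Hm (c * d) = Hm c * Hm d := by
  apply Subtype.ext
  rw [Matrix.SpecialLinearGroup.coe_mul]
  ext i j
  fin_cases i <;> fin_cases j <;> simp [Hm, Matrix.mul_apply, Fin.sum_univ_two, mul_comm]

lemma Hm_one : Hm (1 : Fˣ) = 1 := by
  apply Subtype.ext
  ext i j
  fin_cases i <;> fin_cases j <;> simp [Hm]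

/-- The quadratic relation in `SL₂`. -/
lemma sl2_quad (α : F) (c : Fˣ) (hc : (c : F) = -α⁻¹) (hα : α ≠ 0) :
    Sm * Xm α * Sm = Xm (-α⁻¹) * Hm c * Sm * Xm (-α⁻¹) * (Sm * Sm) := by
  have e : ((c⁻¹ : Fˣ) : F) = -α := by
    rw [Units.val_inv_eq_inv_val, hc, inv_neg, inv_inv]
  apply Subtype.ext
  simp only [Matrix.SpecialLinearGroup.coe_mul]
  ext i j
  fin_cases i <;> fin_cases j <;>
    simp [Xm, Sm, Hm, Matrix.mul_apply, Fin.sum_univ_two, e, hc, hα]

section Elements

variable (a b : Fin n) (hab : a ≠ b)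

/-- The root elements, as a homomorphism. -/
def xH : Multiplicative F →* SLn n F where
  toFun t := iot a b hab (Xm (Multiplicative.toAdd t))
  map_one' := by
    rw [toAdd_one, Xm_zero, map_one]
  map_mul' s t := by
    rw [toAdd_mul, Xm_add, map_mul]

/-- The Weyl elements. -/
def sE : SLn n F := iot a b hab Sm

/-- The diagonal elements, as a homomorphism. -/
def hH : Fˣ →* SLn n F where
  toFun c := iot a b hab (Hm c)
  map_one' := by
    rw [Hm_one, map_one]
  map_mul' c d := by
    rw [Hm_mul, map_mul]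

lemma xH_apply (t : F) (k l : Fin n) :
    (xH a b hab (Multiplicative.ofAdd t)).1 k l = if k = a ∧ l = b then t else (1 : Matrix (Fin n) (Fin n) F) k l := by
  show emb a b hab (Xm t).1 k l = _
  rw [emb_apply]
  by_cases h1 : k = a
  · subst h1
    by_cases h2 : l = k
    · subst h2
      simp [Xm, hab]
    · by_cases h3 : l = b
      · subst h3
        simp [Xm, hab, h2, Matrix.one_apply_ne (Ne.symm h2)]
      · simp [h2, h3, Matrix.one_apply_ne (Ne.symm h2)]
  · by_cases h4 : k = b
    · subst h4
      by_cases h2 : l = a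
      · subst h2
        simp [Xm, hab, Ne.symm hab]
      · by_cases h3 : l = k
        · subst h3
          simp [Xm, h2]
        · simp [h1, h2, h3, Matrix.one_apply_ne (Ne.symm h3)]
    · simp [h1, h4, Matrix.one_apply]

lemma xH_inj : Function.Injective (xH (F := F) a b hab) := by
  rw [injective_iff_map_eq_one]
  intro t h
  have h1 := congrArg (fun g : SLn n F => g.1 a b) h
  have h2 := xH_apply (F := F) a b hab (Multiplicative.toAdd t) a b
  simp only [ofAdd_toAdd, true_and, if_true, and_self] at h2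
  simp only [Matrix.SpecialLinearGroup.coe_one] at h1
  rw [h2, Matrix.one_apply_ne hab] at h1
  exact Multiplicative.toAdd.injective h1

lemma sE_isMono : IsMono (sE (F := F) a b hab).1 (Equiv.swap a b) := by
  intro k l h
  show emb a b hab (Sm (F := F)).1 k l = 0
  rw [emb_apply]
  by_cases h1 : l = a
  · subst h1
    rw [Equiv.swap_apply_left] at h
    by_cases h2 : k = l
    · subst h2
      simp [Sm]
    · simp [h2, h]
  · by_cases h3 : l = b
    · subst h3
      rw [Equiv.swap_apply_right] at h
      by_cases h4 : k = l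
      · subst h4
        simp [Sm, h]
      · simp [h, h4, h1]
    · rw [Equiv.swap_apply_of_ne_of_ne h1 h3] at h
      simp [h, h1, h3]

lemma hH_apply (c : Fˣ) (k l : Fin n) :
    (hH a b hab c).1 k l = if k = l then (if k = a then (c : F) else if k = b then ((c⁻¹ : Fˣ) : F) else 1) else 0 := by
  show emb a b hab (Hm c).1 k l = _
  rw [emb_apply]
  by_cases h1 : k = a
  · subst h1
    by_cases h2 : l = k
    · subst h2
      simp [Hm]
    · by_cases h3 : l = b
      · subst h3
        simp [Hm, hab, hab.symm]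
      · simp [h2, h3, Ne.symm h2]
  · by_cases h4 : k = b
    · subst h4
      by_cases h2 : l = a
      · subst h2
        simp [Hm, hab, hab.symm]
      · by_cases h3 : l = k
        · subst h3
          simp [Hm, h2]
        · simp [h1, h2, h3, Ne.symm h3]
    · by_cases h5 : k = l
      · subst h5
        simp [h1, h4]
      · simp [h1, h4, h5]

lemma hH_mem [Finite F] (c : Fˣ) : hH a b hab c ∈ TT n F := by
  intro k l h
  rw [hH_apply, if_neg (show ¬ k = l from h)]

/-- The quadratic relation in `SL_n`. -/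
lemma quad_rel (α : F) (c : Fˣ) (hc : (c : F) = -α⁻¹) (hα : α ≠ 0) :
    sE a b hab * xH a b hab (Multiplicative.ofAdd α) * sE a b hab =
      xH a b hab (Multiplicative.ofAdd (-α⁻¹)) * hH a b hab c * sE a b hab * xH a b hab (Multiplicative.ofAdd (-α⁻¹)) *
        (sE a b hab * sE a b hab) := by
  have h := congrArg (iot a b hab) (sl2_quad α c hc hα)
  simp only [map_mul] at h
  exact h

lemma sE_sq_mem [Finite F] : sE (F := F) a b hab * sE a b hab ∈ TT n F := by
  have h := IsMono.mul (sE_isMono (F := F) a b hab) (sE_isMono (F := F) a b hab)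
  rw [Equiv.swap_mul_self] at h
  exact h

lemma xH_mem_UU [Finite F] (h : a < b) (t : Multiplicative F) : xH a b hab t ∈ UU n F := by
  have e : t = Multiplicative.ofAdd (Multiplicative.toAdd t) := rfl
  rw [e]
  constructor
  · intro k l hl
    rw [xH_apply, if_neg, Matrix.one_apply_ne (ne_of_gt hl)]
    rintro ⟨rfl, rfl⟩
    exact lt_asymm h hl
  · intro k
    rw [xH_apply, if_neg, Matrix.one_apply_eq]
    rintro ⟨rfl, h2⟩
    exact hab h2

end Elements

end Cfsg.Agent.Lib.SLn
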