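/-
The Bruhat decomposition of `SL_n` and the group-theoretic facts around it.
-/
import Cfsg.Agent.Lib.SLn.Emb

set_option autoImplicit false

namespace Cfsg.Agent.Lib.SLn

open Cfsg Matrix

open Cfsg.Agent.Lib.GLFlag (SLn iSL diagGL diagGL_val permGL permGL_coe permM exists_SL exists_diag det_perm_ne)

variable {n : ℕ} {F : Type*} [Field F]

section Split

lemma ut_diag_ne {b : GL (Fin n) F} (hb : b ∈ upperTriangularGL n F) (k : Fin n) :
    (b : Matrix (Fin n) (Fin n) F) k k ≠ 0 := by
  have h1 : (b : Matrix (Fin n) (Fin n) F).BlockTriangular id := hb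
  have h2 := Matrix.det_of_isUpperTriangular h1
  have h3 := Cfsg.Agent.Lib.GLFlag.det_ne_zero b
  rw [h2] at h3
  exact (Finset.prod_ne_zero_iff.1 h3) k (Finset.mem_univ k)

/-- A matrix with unit upper triangular form has determinant one. -/
lemma det_unit {g : Matrix (Fin n) (Fin n) F} (h1 : ∀ k l, l < k → g k l = 0) (h2 : ∀ k, g k k = 1) : g.det = 1 := by
  have h : g.BlockTriangular id := fun k l hl => h1 k l hl
  rw [Matrix.det_of_isUpperTriangular h]
  exact Finset.prod_eq_one fun k _ => h2 k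

/-- Upper triangular matrices, with the diagonal on the right. -/
lemma ut_split_r {b : GL (Fin n) F} (hb : b ∈ upperTriangularGL n F) :
    ∃ (d : Fin n → Fˣ) (u : SLn n F), (∀ k l, l < k → u.1 k l = 0) ∧ (∀ k, u.1 k k = 1) ∧ b = iSL u * diagGL d := by
  have hb' : (b : Matrix (Fin n) (Fin n) F).BlockTriangular id := hb
  let d : Fin n → Fˣ := fun k => Units.mk0 _ (ut_diag_ne hb k)
  let M : Matrix (Fin n) (Fin n) F := (b : Matrix (Fin n) (Fin n) F) * Matrix.diagonal fun k => (((d k)⁻¹ : Fˣ) : F)
  have hM : ∀ k l, M k l = (b : Matrix (Fin n) (Fin n) F) k l * (((d l)⁻¹ : Fˣ) : F) := by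
    intro k l
    exact Matrix.mul_diagonal _ _ _ _
  have h1 : ∀ k l, l < k → M k l = 0 := by
    intro k l hl
    rw [hM, hb' hl, zero_mul]
  have h2 : ∀ k, M k k = 1 := by
    intro k
    rw [hM]
    simp [d, Units.val_inv_eq_inv_val, ut_diag_ne hb k]
  refine ⟨d, ⟨M, det_unit h1 h2⟩, h1, h2, ?_⟩
  apply Units.ext
  show (b : Matrix (Fin n) (Fin n) F) = M * Matrix.diagonal fun k => (d k : F)
  simp only [M]
  rw [Matrix.mul_assoc, Matrix.diagonal_mul_diagonal]
  have : (Matrix.diagonal fun k => (((d k)⁻¹ : Fˣ) : F) * (d k : F)) = (1 : Matrix (Fin n) (Fin n) F) := by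
    rw [← Matrix.diagonal_one]
    congr 1
    funext k
    simp
  rw [this, Matrix.mul_one]

/-- Upper triangular matrices, with the diagonal on the left. -/
lemma ut_split_l {b : GL (Fin n) F} (hb : b ∈ upperTriangularGL n F) :
    ∃ (d : Fin n → Fˣ) (u : SLn n F), (∀ k l, l < k → u.1 k l = 0) ∧ (∀ k, u.1 k k = 1) ∧ b = diagGL d * iSL u := by
  have hb' : (b : Matrix (Fin n) (Fin n) F).BlockTriangular id := hb
  let d : Fin n → Fˣ := fun k => Units.mk0 _ (ut_diag_ne hb k)
  let M : Matrix (Fin n) (Fin n) F := (Matrix.diagonal fun k => (((d k)⁻¹ : Fˣ) : F)) * (b : Matrix (Fin n) (Fin n) F)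
  have hM : ∀ k l, M k l = (((d k)⁻¹ : Fˣ) : F) * (b : Matrix (Fin n) (Fin n) F) k l := by
    intro k l
    exact Matrix.diagonal_mul _ _ _ _
  have h1 : ∀ k l, l < k → M k l = 0 := by
    intro k l hl
    rw [hM, hb' hl, mul_zero]
  have h2 : ∀ k, M k k = 1 := by
    intro k
    rw [hM]
    simp [d, Units.val_inv_eq_inv_val, ut_diag_ne hb k]
  refine ⟨d, ⟨M, det_unit h1 h2⟩, h1, h2, ?_⟩
  apply Units.ext
  show (b : Matrix (Fin n) (Fin n) F) = (Matrix.diagonal fun k => (d k : F)) * M
  simp only [M]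
  rw [← Matrix.mul_assoc, Matrix.diagonal_mul_diagonal]
  have : (Matrix.diagonal fun k => (d k : F) * (((d k)⁻¹ : Fˣ) : F)) = (1 : Matrix (Fin n) (Fin n) F) := by
    rw [← Matrix.diagonal_one]
    congr 1
    funext k
    simp
  rw [this, Matrix.one_mul]

variable [Finite F]

/-- The Bruhat decomposition of `SL_n`. -/
theorem exists_bruhat_SL (g : SLn n F) :
    ∃ u₁ ∈ UU n F, ∃ m : SLn n F, ∃ w : Equiv.Perm (Fin n), IsMono m.1 w ∧ ∃ u₂ ∈ UU n F, g = u₁ * m * u₂ := by
  obtain ⟨u, v, w, hu, hv, e⟩ := Cfsg.Agent.Lib.GLFlag.exists_bruhat (iSL g)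
  obtain ⟨d₁, U₁, h1, h2, rfl⟩ := ut_split_r hu
  obtain ⟨d₂, U₂, h3, h4, rfl⟩ := ut_split_l hv
  refine ⟨U₁, ⟨h1, h2⟩, U₁⁻¹ * g * U₂⁻¹, w, ?_, U₂, ⟨h3, h4⟩, by group⟩
  have e1 : iSL (U₁⁻¹ * g * U₂⁻¹) = diagGL d₁ * permGL F w * diagGL d₂ := by
    rw [map_mul, map_mul, map_inv, map_inv, e]
    group
  have e2 : (U₁⁻¹ * g * U₂⁻¹ : SLn n F).1 = ((diagGL d₁ * permGL F w * diagGL d₂ : GL (Fin n) F) : Matrix (Fin n) (Fin n) F) := by
    rw [← e1]
    rfl
  rw [e2, Units.val_mul, Units.val_mul, diagGL_val, diagGL_val, permGL_coe]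
  have := ((isMono_diagonal (fun i => (d₁ i : F))).mul (isMono_permM w)).mul (isMono_diagonal (fun i => (d₂ i : F)))
  simpa using this

end Split

section Rev

/-- Monomial matrices for every permutation. -/
lemma exists_mono (hn : 0 < n) (w : Equiv.Perm (Fin n)) : ∃ m : SLn n F, IsMono m.1 w := by
  obtain ⟨c, hc⟩ := det_perm_ne (permGL F w)
  obtain ⟨d, hd⟩ := exists_diag (F := F) hn c
  obtain ⟨m, hm⟩ := exists_SL (F := F) (g := permGL F w * diagGL d) (by
    rw [Units.val_mul, Matrix.det_mul, hd, hc, mul_inv_cancel₀ (Cfsg.Agent.Lib.GLFlag.det_ne_zero _)])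
  refine ⟨m, ?_⟩
  have e : m.1 = ((permGL F w * diagGL d : GL (Fin n) F) : Matrix (Fin n) (Fin n) F) := by
    rw [← hm]
    rfl
  rw [e, Units.val_mul, permGL_coe, diagGL_val]
  have := (isMono_permM (F := F) w).mul (isMono_diagonal (fun i => (d i : F)))
  simpa using this

/-- A permutation other than the longest one keeps the order of some pair. -/
lemma exists_asc {w : Equiv.Perm (Fin n)} (hw : w ≠ Fin.revPerm) : ∃ a b : Fin n, a < b ∧ w⁻¹ a < w⁻¹ b := by
  by_contra hcon
  push Not at hcon
  apply hw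
  have hs : StrictMono (fun k => Fin.rev (w⁻¹ k)) := by
    intro a b hab
    have h1 := hcon a b hab
    have h2 : w⁻¹ a ≠ w⁻¹ b := fun e => hab.ne ((w⁻¹).injective e)
    exact Fin.rev_lt_rev.2 (lt_of_le_of_ne h1 (Ne.symm h2))
  have hsurj : Function.Surjective (fun k => Fin.rev (w⁻¹ k)) := by
    intro y
    exact ⟨w (Fin.rev y), by simp⟩
  have h3 : (fun k => Fin.rev (w⁻¹ k)) = id :=
    (hs.range_inj strictMono_id).1 (by rw [hsurj.range_eq]; simp)
  ext k
  have h4 := congrFun h3 (w k)
  have h5 : w⁻¹ (w k) = k := by simp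
  simp only [h5, id_eq] at h4
  rw [← h4]
  rfl

end Rev

section PGroup

variable [Finite F]

lemma sub_one_pow {u : SLn n F} (hu : u ∈ UU n F) (m : ℕ) (i j : Fin n) (h : j.val < i.val + m) :
    ((u.1 - 1) ^ m) i j = 0 := by
  induction m generalizing j with
  | zero =>
    rw [pow_zero]
    apply Matrix.one_apply_ne
    intro e
    rw [e] at h
    simp at h
  | succ m ih =>
    rw [pow_succ, Matrix.mul_apply]
    refine Finset.sum_eq_zero fun r _ => ?_
    by_cases hr : r.val < i.val + m
    · rw [ih r hr, zero_mul]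
    · have h1 : j.val ≤ r.val := by omega
      rcases h1.lt_or_eq with h2 | h2
      · have h5 : (1 : Matrix (Fin n) (Fin n) F) r j = 0 := Matrix.one_apply_ne (fun e => h2.ne (congrArg Fin.val e).symm)
        rw [Matrix.sub_apply, hu.1 r j h2, h5, sub_zero, mul_zero]
      · have h3 : j = r := Fin.ext h2
        rw [h3, Matrix.sub_apply, hu.2 r, Matrix.one_apply_eq, sub_self, mul_zero]

lemma sub_one_pow_n {u : SLn n F} (hu : u ∈ UU n F) : (u.1 - 1) ^ n = 0 := by
  ext i j
  rw [sub_one_pow hu n i j (by have := j.2; omega)]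
  simp

/-- The unitriangular group is a `p`-group. -/
theorem UU_pGroup (p : ℕ) [Fact p.Prime] [CharP F p] (hn : 0 < n) : IsPGroup p (UU n F) := by
  rintro ⟨u, hu⟩
  haveI : NeZero n := ⟨hn.ne'⟩
  haveI : Nonempty (Fin n) := ⟨⟨0, hn⟩⟩
  refine ⟨n, ?_⟩
  apply Subtype.ext
  apply Subtype.ext
  have hle : n ≤ p ^ n := (Nat.lt_pow_self (Fact.out : p.Prime).one_lt).le
  have e : ((⟨u, hu⟩ ^ p ^ n : UU n F) : SLn n F).1 = u.1 ^ p ^ n := by
    simp
  rw [e]
  have h1 : u.1 = (u.1 - 1) + 1 := by simp
  have h2 : u.1 ^ p ^ n = (u.1 - 1) ^ p ^ n + 1 := by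
    conv_lhs => rw [h1]
    rw [add_pow_char_pow_of_commute p n (Commute.one_right _), one_pow]
  rw [h2, ← Nat.sub_add_cancel hle, pow_add, sub_one_pow_n hu]
  simp

/-- Elements of the diagonal group have order prime to the characteristic. -/
lemma TT_pow_card [Fintype F] {t : SLn n F} (ht : t ∈ TT n F) : t ^ (Fintype.card F - 1) = 1 := by
  have ht' : IsMono t.1 1 := ht
  have h1 : t.1 = Matrix.diagonal fun k => t.1 k k := by
    ext i j
    by_cases h : i = j
    · subst h
      simp
    · rw [ht' i j h, Matrix.diagonal_apply_ne _ h]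
  apply Subtype.ext
  rw [Matrix.SpecialLinearGroup.coe_pow, h1, Matrix.diagonal_pow, Matrix.SpecialLinearGroup.coe_one, ← Matrix.diagonal_one]
  congr 1
  funext k
  have h2 : t.1 k k ≠ 0 := by
    intro h0
    have h3 := IsMono.diag_mul (m := t.1) (m' := (t⁻¹ : SLn n F).1) (w := 1) ht' (coe_inv_mul t) k
    simp only [Equiv.Perm.one_apply, h0, mul_zero] at h3
    exact zero_ne_one h3
  simp only [Pi.pow_apply, Pi.one_apply]
  exact FiniteField.pow_card_sub_one_eq_one _ h2

theorem not_dvd_card_TT [Fintype F] (p : ℕ) [hp : Fact p.Prime] [CharP F p] : ¬ p ∣ Nat.card (TT n F) := by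
  intro h
  have hpp : p.Prime := hp.out
  obtain ⟨t, ht⟩ := exists_prime_orderOf_dvd_card' p h
  have h1 := TT_pow_card t.2
  have h2 : orderOf t ∣ Fintype.card F - 1 := by
    apply orderOf_dvd_of_pow_eq_one
    apply Subtype.ext
    simpa using h1
  rw [ht] at h2
  obtain ⟨f, _, hf⟩ := FiniteField.card F p
  have h3 : p ∣ Fintype.card F := by
    rw [hf]
    exact dvd_pow_self p f.pos.ne'
  have h4 : p ∣ 1 := by
    have h5 : Fintype.card F = (Fintype.card F - 1) + 1 := (Nat.sub_add_cancel Fintype.card_pos).symm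
    rw [h5] at h3
    exact (Nat.dvd_add_right h2).1 h3
  exact hpp.one_lt.ne' (Nat.dvd_one.1 h4)

end PGroup

section Gen

variable [Finite F]

lemma TT_eq_one {t : SLn n F} (ht : t ∈ TT n F) (h : ∀ k, t.1 k k = 1) : t = 1 := by
  apply Subtype.ext
  ext i j
  by_cases e : i = j
  · subst e
    rw [h i, Matrix.SpecialLinearGroup.coe_one, Matrix.one_apply_eq]
  · rw [ht i j e, Matrix.SpecialLinearGroup.coe_one, Matrix.one_apply_ne e]

lemma TT_mul_apply {s t : SLn n F} (ht : t ∈ TT n F) (k : Fin n) : (s * t).1 k k = s.1 k k * t.1 k k := by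
  rw [Matrix.SpecialLinearGroup.coe_mul, IsMono.mul_apply (w := 1) ht]
  simp

/-- The diagonal group is generated by the elements attached to adjacent positions. -/
theorem TT_le (K : Subgroup (SLn n F)) (hK : ∀ (a b : Fin n) (hab : a ≠ b), a.val + 1 = b.val → ∀ c, hH a b hab c ∈ K) :
    TT n F ≤ K := by
  have key : ∀ d j : ℕ, j + d = n → ∀ t ∈ TT n F, (∀ k : Fin n, k.val < j → t.1 k k = 1) → t ∈ K := by
    intro d
    induction d with
    | zero =>
      intro j hj t ht h
      rw [TT_eq_one ht (fun k => h k (by have := k.2; omega))]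
      exact one_mem _
    | succ d ih =>
      intro j hj t ht h
      have hjn : j < n := by omega
      let a : Fin n := ⟨j, hjn⟩
      have hne : t.1 a a ≠ 0 := by
        intro h0
        have h3 := IsMono.diag_mul (m := t.1) (m' := (t⁻¹ : SLn n F).1) (w := 1) ht (coe_inv_mul t) a
        simp only [Equiv.Perm.one_apply, h0, mul_zero] at h3
        exact zero_ne_one h3
      by_cases hd : d = 0
      · subst hd
        refine ih n (by omega) t ht fun k hk => ?_
        by_cases e : k = a
        · subst e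
          have h1 : t.1 = Matrix.diagonal fun k => t.1 k k := by
            ext i j
            by_cases h : i = j
            · subst h
              simp
            · rw [ht i j h, Matrix.diagonal_apply_ne _ h]
          have h2 := t.2
          rw [h1, Matrix.det_diagonal, Finset.prod_eq_single a] at h2
          · exact h2
          · intro b _ hb
            refine h b ?_
            have h3 : b.val ≠ a.val := fun e => hb (Fin.ext e)
            have h4 := b.2
            show b.val < j
            have h5 : a.val = j := rfl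
            omega
          · simp
        · refine h k ?_
          have h3 : k.val ≠ a.val := fun e' => e (Fin.ext e')
          have h5 : a.val = j := rfl
          omega
      · have hj1 : j + 1 < n := by omega
        let b : Fin n := ⟨j + 1, hj1⟩
        have hab : a ≠ b := by
          intro e
          have := congrArg Fin.val e
          simp [a, b] at this
        let c : Fˣ := Units.mk0 _ hne
        let h₀ := hH (F := F) a b hab c⁻¹
        have hh₀ : h₀ ∈ TT n F := hH_mem a b hab _
        have h1 : t * h₀ ∈ K := by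
          refine ih (j + 1) (by omega) _ (mul_mem ht hh₀) fun k hk => ?_
          rw [TT_mul_apply hh₀, hH_apply, if_pos rfl]
          by_cases e : k = a
          · rw [if_pos e, e]
            simp [c, hne]
          · have hk2 : k ≠ b := by
              intro e2
              have := congrArg Fin.val e2
              simp only [b] at this
              omega
            rw [if_neg e, if_neg hk2, mul_one]
            refine h k ?_
            have h3 : k.val ≠ a.val := fun e' => e (Fin.ext e')
            have h5 : a.val = j := rfl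
            omega
        have h2 : h₀ ∈ K := hK a b hab rfl _
        have e : t = (t * h₀) * h₀⁻¹ := by group
        rw [e]
        exact mul_mem h1 (inv_mem h2)
  intro t ht
  exact key n 0 (by omega) t ht fun k hk => absurd hk (Nat.not_lt_zero _)

end Gen

section Conj

variable [Finite F]

/-- Conjugates of root elements. -/
lemma conj_xH_mem {m : SLn n F} {w : Equiv.Perm (Fin n)} (hm : IsMono m.1 w) (a b : Fin n) (hab : a ≠ b) (h : a < b)
    (hw : w⁻¹ a < w⁻¹ b) (t : Multiplicative F) : m⁻¹ * xH a b hab t * m ∈ UU n F := by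
  refine conj_mem_UU hm (fun k => (xH_mem_UU a b hab h t).2 _) fun k l hl => ?_
  have e : t = Multiplicative.ofAdd (Multiplicative.toAdd t) := rfl
  rw [e, xH_apply, if_neg, Matrix.one_apply_ne]
  · intro e1
    exact hl.ne (w.injective e1).symm
  · rintro ⟨h1, h2⟩
    have h3 : k = w⁻¹ a := by rw [← h1]; simp
    have h4 : l = w⁻¹ b := by rw [← h2]; simp
    rw [← h3, ← h4] at hw
    exact lt_asymm hw hl

lemma swap_order {a b k l : Fin n} (hab : a.val + 1 = b.val) (hl : l < k) (h : ¬ Equiv.swap a b l < Equiv.swap a b k) :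
    k = b ∧ l = a := by
  have hl' : l.val < k.val := hl
  rw [Equiv.swap_apply_def, Equiv.swap_apply_def] at h
  simp only [Fin.ext_iff, Fin.lt_def] at *
  split_ifs at h <;> omega

/-- The reflection normalizes the unitriangular elements without the entry of the root. -/
lemma sE_conj_mem {a b : Fin n} (hab : a ≠ b) (hadj : a.val + 1 = b.val) {y : SLn n F} (hy : y ∈ UU n F) (h0 : y.1 a b = 0) :
    (sE a b hab)⁻¹ * y * sE a b hab ∈ UU n F := by
  refine conj_mem_UU (sE_isMono a b hab) (fun k => hy.2 _) fun k l hl => ?_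
  by_cases h : Equiv.swap a b l < Equiv.swap a b k
  · exact hy.1 _ _ h
  · obtain ⟨rfl, rfl⟩ := swap_order hadj hl h
    rw [Equiv.swap_apply_left, Equiv.swap_apply_right]
    exact h0

lemma xH_entry (a b : Fin n) (hab : a ≠ b) (t : Multiplicative F) : (xH a b hab t).1 a b = Multiplicative.toAdd t := by
  have e : t = Multiplicative.ofAdd (Multiplicative.toAdd t) := rfl
  rw [e, xH_apply, if_pos ⟨rfl, rfl⟩]
  rfl

/-- The decomposition of unitriangular elements. -/
lemma UU_dec {a b : Fin n} (hab : a ≠ b) (hadj : a.val + 1 = b.val) {u : SLn n F} (hu : u ∈ UU n F) :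
    ∃ α : Multiplicative F, ∃ y : SLn n F, u = xH a b hab α * y ∧
      ∀ β, (sE a b hab)⁻¹ * ((xH a b hab β)⁻¹ * y * xH a b hab β) * sE a b hab ∈ UU n F := by
  have hlt : a < b := by
    show a.val < b.val
    omega
  have hx := xH_mem_UU (F := F) a b hab hlt
  let α : Multiplicative F := Multiplicative.ofAdd (u.1 a b)
  refine ⟨α, (xH a b hab α)⁻¹ * u, by group, fun β => ?_⟩
  have hinv : ∀ γ : Multiplicative F, (xH a b hab γ)⁻¹ = xH a b hab γ⁻¹ := fun γ => (map_inv _ _).symm
  have hy : (xH a b hab α)⁻¹ * u ∈ UU n F := mul_mem (inv_mem (hx α)) hu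
  apply sE_conj_mem hab hadj
  · exact mul_mem (mul_mem (inv_mem (hx β)) hy) (hx β)
  · rw [mul_apply_adj (mul_mem (inv_mem (hx β)) hy) (hx β) hadj, mul_apply_adj (inv_mem (hx β)) hy hadj,
      mul_apply_adj (inv_mem (hx α)) hu hadj, hinv, hinv, xH_entry, xH_entry, xH_entry]
    simp [α]

/-- Conjugation of root elements by the diagonal group. -/
lemma TT_conj_xH {t : SLn n F} (ht : t ∈ TT n F) (a b : Fin n) (hab : a ≠ b) :
    ∃ c : F, c ≠ 0 ∧ ∀ α : F, t * xH a b hab (Multiplicative.ofAdd α) * t⁻¹ = xH a b hab (Multiplicative.ofAdd (c * α)) := by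
  have ht' : IsMono t.1 1 := ht
  have hd : ∀ k, t.1 k k * (t⁻¹ : SLn n F).1 k k = 1 := by
    intro k
    have h := congrFun (congrFun (coe_mul_inv t) k) k
    rw [IsMono.apply_mul (w := 1) ht'] at h
    simpa using h
  refine ⟨t.1 a a * (t⁻¹ : SLn n F).1 b b, ?_, fun α => ?_⟩
  · refine mul_ne_zero ?_ ?_
    · intro h0
      have := hd a
      rw [h0, zero_mul] at this
      exact zero_ne_one this
    · intro h0
      have := hd b
      rw [h0, mul_zero] at this
      exact zero_ne_one this
  · apply Subtype.ext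
    ext k l
    have hti : IsMono (t⁻¹ : SLn n F).1 1 := by
      have := IsMono.inv (g := t) ht'
      simpa using this
    have e := conj_apply (m := (t⁻¹ : SLn n F).1) (m' := t.1) (w := 1) hti (by simpa using ht')
      (xH a b hab (Multiplicative.ofAdd α)).1 k l
    simp only [Equiv.Perm.one_apply] at e
    show (t.1 * (xH a b hab (Multiplicative.ofAdd α)).1 * (t⁻¹ : SLn n F).1) k l = _
    rw [e, xH_apply, xH_apply]
    by_cases h : k = a ∧ l = b
    · obtain ⟨rfl, rfl⟩ := h
      simp only [and_self, if_true]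
      ring
    · rw [if_neg h, if_neg h]
      by_cases e1 : k = l
      · subst e1
        rw [Matrix.one_apply_eq, mul_one, hd]
      · rw [Matrix.one_apply_ne e1]
        simp

end Conj

end Cfsg.Agent.Lib.SLn
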